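import Cfsg.Agent.H693.Sch.Value
import Cfsg.Agent.Blocks.Fong
import Cfsg.Agent.Blocks.PrincipalSection
import Cfsg.Agent.Characters.ClassMul

/-!
# The spherical lemma for blocks (helper582)

`G` acts on the finite set `X`, `c` is a colouring of the pairs whose colour classes are the orbits on pairs.  A class sum
acts on `ℤ[X]` as an integral combination of the adjacency matrices.  Hence:

* `sameBlock_of_sph` : if two irreducible characters have the spherical functions `ω`, `ω'` and
  `k u * ω u ≡ k u * ω' u` modulo `M` for all colours `u`, then they are in the same block;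
* `mem_principal_of_sph` : if `k u * ω u ≡ k u` for all `u`, the character is in the principal block;
* the refined versions: the congruence is only needed for the `p`-essential colours, those `u = c x y` for which some
  element of `C_G(R)` maps `x` to `y`, for every `p`-subgroup `R` fixing `x` and `y`.
-/

set_option autoImplicit false

open Cfsg Cfsg.Agent.H816.IMEig Cfsg.Agent.H816.IMEig.Col Cfsg.Agent.Blocks.Fong
open scoped BigOperators

namespace Cfsg.Agent.H582.Sph

universe u v

variable {G : Type u} [Group G] {X : Type v} [MulAction G X] {ι : Type} [Fintype ι] [DecidableEq ι]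

/-- The number of conjugates of `g` mapping `x` to `y`. -/
noncomputable def cc (g : G) (x y : X) : ℕ := Nat.card {h : G // IsConj g h ∧ h • x = y}

theorem cc_smul [Finite G] (g t : G) (x y : X) : cc g (t • x) (t • y) = cc g x y := by
  symm
  refine Nat.card_congr ⟨fun h => ⟨t * h.1 * t⁻¹, h.2.1.trans (isConj_iff.2 ⟨t, rfl⟩), ?_⟩,
    fun h => ⟨t⁻¹ * h.1 * t, h.2.1.trans (isConj_iff.2 ⟨t⁻¹, by simp⟩), ?_⟩, fun h => ?_, fun h => ?_⟩
  · rw [mul_smul, mul_smul, inv_smul_smul, h.2.2]
  · rw [mul_smul, mul_smul, h.2.2, inv_smul_smul]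
  · apply Subtype.ext
    show t⁻¹ * (t * h.1 * t⁻¹) * t = h.1
    group
  · apply Subtype.ext
    show t * (t⁻¹ * h.1 * t) * t⁻¹ = h.1
    group

variable {c : X → X → ι} {o : ι}

/-- **Double counting** of the pairs `(h, x)`, `h` conjugate to `g`, `c x (h x) = u`. -/
theorem index_mul [Finite G] [Finite X] (h : Col G X ι c o) (g : G) {x y : X} {u : ι} (hu : c x y = u) :
    (Subgroup.centralizer ({g} : Set G)).index * Nat.card {x : X // c x (g • x) = u} =
      Nat.card X * (kk c x u * cc g x y) := by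
  classical
  have hX := Fintype.ofFinite X
  have hG := Fintype.ofFinite G
  -- the set of pairs
  have e1 : {q : G × X // IsConj g q.1 ∧ c q.2 (q.1 • q.2) = u} ≃
      Σ k : {k : G // IsConj g k}, {x : X // c x (k.1 • x) = u} :=
    ⟨fun q => ⟨⟨q.1.1, q.2.1⟩, ⟨q.1.2, q.2.2⟩⟩, fun q => ⟨(q.1.1, q.2.1), q.1.2, q.2.2⟩, fun _ => rfl, fun _ => rfl⟩
  have e2 : {q : G × X // IsConj g q.1 ∧ c q.2 (q.1 • q.2) = u} ≃
      Σ r : {r : X × X // c r.1 r.2 = u}, {k : G // IsConj g k ∧ k • r.1.1 = r.1.2} :=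
    ⟨fun q => ⟨⟨(q.1.2, q.1.1 • q.1.2), q.2.2⟩, ⟨q.1.1, q.2.1, rfl⟩⟩,
      fun q => ⟨(q.2.1, q.1.1.1), q.2.2.1, by rw [q.2.2.2]; exact q.1.2⟩, fun _ => rfl, by
        rintro ⟨⟨⟨a, b⟩, hab⟩, ⟨k, hk1, hk2⟩⟩
        dsimp only at hk2
        subst hk2
        rfl⟩
  have h1 : ∀ k : {k : G // IsConj g k}, Nat.card {x : X // c x (k.1 • x) = u} = Nat.card {x : X // c x (g • x) = u} := by
    rintro ⟨k, hk⟩
    obtain ⟨t, rfl⟩ := isConj_iff.1 hk
    symm
    refine Nat.card_congr ⟨fun z => ⟨t • z.1, ?_⟩, fun z => ⟨t⁻¹ • z.1, ?_⟩, fun z => ?_, fun z => ?_⟩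
    · show c (t • z.1) ((t * g * t⁻¹) • t • z.1) = u
      rw [mul_smul, mul_smul, inv_smul_smul, h.inv]
      exact z.2
    · have h2 := h.inv t (t⁻¹ • z.1) (g • t⁻¹ • z.1)
      rw [smul_inv_smul] at h2
      rw [← h2, ← mul_smul, ← mul_smul]
      exact z.2
    · apply Subtype.ext
      exact inv_smul_smul _ _
    · apply Subtype.ext
      exact smul_inv_smul _ _
  have h2 : ∀ r : {r : X × X // c r.1 r.2 = u}, Nat.card {k : G // IsConj g k ∧ k • r.1.1 = r.1.2} = cc g x y := by
    rintro ⟨⟨a, b⟩, hab⟩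
    obtain ⟨t, rfl, rfl⟩ := h.tr x y a b (hu.trans hab.symm)
    exact cc_smul g t x y
  have h3 := (Nat.card_congr e1).symm.trans (Nat.card_congr e2)
  rw [Nat.card_sigma, Nat.card_sigma] at h3
  simp only [h1, h2, Finset.sum_const, Finset.card_univ, smul_eq_mul] at h3
  rw [← Nat.card_eq_fintype_card, ← Nat.card_eq_fintype_card, h.card_pairs x u, mul_assoc] at h3
  rw [← h3]
  congr 1
  rw [Blocks.Basic.index_centralizer_eq_ncard]
  rfl

/-- A `p`-subgroup `R` fixing `x` and `y` such that no element of `C_G(R)` maps `x` to `y`: the number of conjugates of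
`g` mapping `x` to `y` is divisible by `p`. -/
theorem dvd_cc [Finite G] {p : ℕ} [Fact p.Prime] (g : G) {x y : X} {R : Subgroup G} (hR : IsPGroup p R)
    (hx : ∀ r ∈ R, r • x = x) (hy : ∀ r ∈ R, r • y = y)
    (hC : ∀ k ∈ Subgroup.centralizer (R : Set G), k • x ≠ y) : p ∣ cc g x y := by
  classical
  let _ : MulAction R {h : G // IsConj g h ∧ h • x = y} :=
    { smul := fun r h => ⟨(r : G) * h.1 * (r : G)⁻¹, h.2.1.trans (isConj_iff.2 ⟨(r : G), rfl⟩), by
        rw [mul_smul, mul_smul]
        have h1 : (r : G)⁻¹ • x = x := hx _ (R.inv_mem r.2)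
        rw [h1, h.2.2, hy _ r.2]⟩
      one_smul := fun h => Subtype.ext (by
        show ((1 : R) : G) * h.1 * ((1 : R) : G)⁻¹ = h.1
        simp)
      mul_smul := fun r s h => Subtype.ext (by
        show ((r * s : R) : G) * h.1 * ((r * s : R) : G)⁻¹ = (r : G) * ((s : G) * h.1 * (s : G)⁻¹) * (r : G)⁻¹
        push_cast
        group) }
  have h1 := hR.card_modEq_card_fixedPoints {h : G // IsConj g h ∧ h • x = y}
  have h2 : IsEmpty (MulAction.fixedPoints R {h : G // IsConj g h ∧ h • x = y}) := by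
    refine ⟨fun k => ?_⟩
    refine hC k.1.1 ?_ k.1.2.2
    rw [Subgroup.mem_centralizer_iff]
    intro r hr
    have h3 := congrArg Subtype.val (k.2 ⟨r, hr⟩)
    have h4 : r * k.1.1 * r⁻¹ = k.1.1 := h3
    calc r * k.1.1 = (r * k.1.1 * r⁻¹) * r := by group
      _ = k.1.1 * r := by rw [h4]
  rw [Nat.card_of_isEmpty (α := MulAction.fixedPoints R {h : G // IsConj g h ∧ h • x = y})] at h1
  exact (Nat.modEq_zero_iff_dvd).1 h1

/-- The colour `u` is not `p`-essential. -/
def Iness (p : ℕ) (G : Type u) [Group G] {X : Type v} [MulAction G X] {ι : Type} (c : X → X → ι) (u : ι) : Prop :=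
  ∀ x y : X, c x y = u → ∃ R : Subgroup G, IsPGroup p R ∧ (∀ r ∈ R, r • x = x) ∧ (∀ r ∈ R, r • y = y) ∧
    ∀ k ∈ Subgroup.centralizer (R : Set G), k • x ≠ y

variable {p : ℕ} {M : Ideal AlgInt}

theorem lideal_prime (hM : IsPModular p M) : MemLocalIdeal M (p : ℂ) := by
  have hp := hM.2.1.isPrime
  have h1 := (lideal_coe_iff hp (a := (p : AlgInt))).2 hM.2.2
  simpa using h1

theorem lring_nat (hp : M.IsPrime) (n : ℕ) : MemLocalRing M (n : ℂ) := by
  simpa using lring_coe hp (n : AlgInt)

/-- **The spherical lemma**, refined form, two characters. -/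
theorem sameBlock_of_sph' [Finite G] [Fintype X] [Nonempty X] (hM : IsPModular p M) (h : Col G X ι c o)
    {χ ψ : G → ℂ} {a b : ℂ} {ω ω' : ι → ℂ} (ha : a ≠ 0) (hb : b ≠ 0) (hω : ω o = 1) (hω' : ω' o = 1)
    (hχ : ∀ g, χ g = a * ∑ x : X, ω (c x (g • x))) (hψ : ∀ g, ψ g = b * ∑ x : X, ω' (c x (g • x)))
    (hc : ∀ x : X, ∀ u, MemLocalIdeal M ((kk c x u : ℂ) * ω u - kk c x u * ω' u) ∨
      (MemLocalRing M ((kk c x u : ℂ) * ω u - kk c x u * ω' u) ∧ Iness p G c u)) : SameBlock M χ ψ := by
  classical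
  have hp := hM.2.1.isPrime
  have hpf : Fact p.Prime := ⟨hM.1⟩
  intro g
  obtain ⟨x₀⟩ := ‹Nonempty X›
  have hX0 : (Nat.card X : ℂ) ≠ 0 := by
    have : Nonempty X := ⟨x₀⟩
    exact_mod_cast (Nat.card_pos (α := X)).ne'
  have key : ∀ (φ : G → ℂ) (d : ℂ) (η : ι → ℂ), d ≠ 0 → η o = 1 → (∀ g, φ g = d * ∑ x : X, η (c x (g • x))) →
      centralChar φ g = ∑ u, ((((Subgroup.centralizer ({g} : Set G)).index *
        Nat.card {x : X // c x (g • x) = u} : ℕ) : ℂ) / Nat.card X) * η u := by
    intro φ d η hd hη hφ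
    have h1 : φ 1 = d * Nat.card X := by
      rw [hφ]
      simp only [one_smul, h.self, hη, Finset.sum_const, Finset.card_univ, nsmul_eq_mul, mul_one, Nat.card_eq_fintype_card]
    have h2 : ∑ x : X, η (c x (g • x)) = ∑ u, (Nat.card {x : X // c x (g • x) = u} : ℂ) * η u := by
      rw [← Finset.sum_fiberwise_of_maps_to (s := Finset.univ) (t := Finset.univ) (g := fun x => c x (g • x))
        (fun _ _ => Finset.mem_univ _)]
      refine Finset.sum_congr rfl fun u _ => ?_
      rw [Finset.sum_congr rfl (g := fun _ => η u) (fun x hx => by rw [(Finset.mem_filter.1 hx).2]), Finset.sum_const,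
        nsmul_eq_mul, Nat.card_eq_fintype_card, Fintype.card_subtype]
    unfold centralChar
    rw [h1, hφ, h2]
    have h3 : ((Subgroup.centralizer ({g} : Set G)).index : ℂ) *
        (d * ∑ u, (Nat.card {x : X // c x (g • x) = u} : ℂ) * η u) / (d * Nat.card X) =
        (∑ u, ((Subgroup.centralizer ({g} : Set G)).index : ℂ) *
          ((Nat.card {x : X // c x (g • x) = u} : ℂ) * η u)) / Nat.card X := by
      rw [← Finset.mul_sum]
      field_simp
    rw [h3, Finset.sum_div]
    refine Finset.sum_congr rfl fun u _ => ?_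
    push_cast
    ring
  rw [key χ a ω ha hω hχ, key ψ b ω' hb hω' hψ, ← Finset.sum_sub_distrib]
  refine lideal_sum hp _ fun u _ => ?_
  rw [← mul_sub]
  by_cases hu : ∃ x y : X, c x y = u
  · obtain ⟨x, y, hxy⟩ := hu
    have h4 := index_mul h g hxy
    rw [h4]
    have h5 : ((Nat.card X * (kk c x u * cc g x y) : ℕ) : ℂ) / Nat.card X * (ω u - ω' u) =
        (cc g x y : ℂ) * ((kk c x u : ℂ) * ω u - kk c x u * ω' u) := by
      push_cast
      field_simp
    rw [h5]
    rcases hc x u with h6 | ⟨h6, h7⟩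
    · exact lideal_mul_left hp (lring_nat hp _) h6
    · obtain ⟨R, hR, hRx, hRy, hC⟩ := h7 x y hxy
      obtain ⟨m, hm⟩ := dvd_cc (p := p) g hR hRx hRy hC
      rw [hm]
      push_cast
      rw [mul_assoc]
      refine lideal_mul_right hp (lideal_prime hM) ?_
      obtain ⟨r, s, hs, hrs⟩ := h6
      refine ⟨(m : AlgInt) * r, s, hs, ?_⟩
      rw [← hrs]
      push_cast
      ring
  · have h4 : Nat.card {x : X // c x (g • x) = u} = 0 := by
      rw [Nat.card_eq_zero]
      left
      exact ⟨fun x => hu ⟨x.1, _, x.2⟩⟩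
    rw [h4]
    simpa using lideal_zero hp

/-- **The spherical lemma**: two irreducible characters with congruent eigenvalues are in the same block. -/
theorem sameBlock_of_sph [Finite G] [Fintype X] [Nonempty X] (hM : IsPModular p M) (h : Col G X ι c o)
    {χ ψ : G → ℂ} {a b : ℂ} {ω ω' : ι → ℂ} (ha : a ≠ 0) (hb : b ≠ 0) (hω : ω o = 1) (hω' : ω' o = 1)
    (hχ : ∀ g, χ g = a * ∑ x : X, ω (c x (g • x))) (hψ : ∀ g, ψ g = b * ∑ x : X, ω' (c x (g • x)))
    (hc : ∀ x : X, ∀ u, MemLocalIdeal M ((kk c x u : ℂ) * ω u - kk c x u * ω' u)) : SameBlock M χ ψ :=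
  sameBlock_of_sph' hM h ha hb hω hω' hχ hψ fun x u => Or.inl (hc x u)

omit [Fintype ι] [DecidableEq ι] in
theorem eq_sph_one [Fintype X] [Nonempty X] (c : X → X → ι) (g : G) :
    (1 : ℂ) = (Nat.card X : ℂ)⁻¹ * ∑ x : X, (fun _ : ι => (1 : ℂ)) (c x (g • x)) := by
  have hX0 : (Nat.card X : ℂ) ≠ 0 := by exact_mod_cast (Nat.card_pos (α := X)).ne'
  simp only [Finset.sum_const, Finset.card_univ, nsmul_eq_mul, mul_one, ← Nat.card_eq_fintype_card]
  rw [inv_mul_cancel₀ hX0]

/-- **The spherical lemma for the principal block**, refined form. -/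
theorem mem_principal_of_sph' [Finite G] [Fintype X] [Nonempty X] (hM : IsPModular p M) (h : Col G X ι c o)
    (χ : IrrCharacter G) {a : ℂ} {ω : ι → ℂ} (ha : a ≠ 0) (hω : ω o = 1)
    (hχ : ∀ g, (χ : G → ℂ) g = a * ∑ x : X, ω (c x (g • x)))
    (hc : ∀ x : X, ∀ u, MemLocalIdeal M ((kk c x u : ℂ) * ω u - kk c x u) ∨
      (MemLocalRing M ((kk c x u : ℂ) * ω u - kk c x u) ∧ Iness p G c u)) : χ ∈ principalBlock M G := by
  have hX0 : (Nat.card X : ℂ)⁻¹ ≠ 0 := inv_ne_zero (by exact_mod_cast (Nat.card_pos (α := X)).ne')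
  have h1 := sameBlock_of_sph' (ψ := fun _ : G => (1 : ℂ)) hM h ha hX0 hω (ω' := fun _ => 1) rfl hχ
    (fun g => eq_sph_one c g) (fun x u => by simpa using hc x u)
  intro g
  have h2 := lideal_neg (h1 g)
  rwa [neg_sub] at h2

/-- **The spherical lemma for the principal block**: `k u * ω u ≡ k u` modulo `M` for all colours. -/
theorem mem_principal_of_sph [Finite G] [Fintype X] [Nonempty X] (hM : IsPModular p M) (h : Col G X ι c o)
    (χ : IrrCharacter G) {a : ℂ} {ω : ι → ℂ} (ha : a ≠ 0) (hω : ω o = 1)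
    (hχ : ∀ g, (χ : G → ℂ) g = a * ∑ x : X, ω (c x (g • x)))
    (hc : ∀ x : X, ∀ u, MemLocalIdeal M ((kk c x u : ℂ) * ω u - kk c x u)) : χ ∈ principalBlock M G :=
  mem_principal_of_sph' hM h χ ha hω hχ fun x u => Or.inl (hc x u)

/-! ### Arbitrary transitive actions without essential orbitals -/

/-- **All constituents of a permutation character are in the principal block**, if for all `x ≠ y` some `p`-subgroup `R`
fixes `x` and `y` and no element of `C_G(R)` maps `x` to `y`. -/
theorem mem_principal_of_iness [Fintype G] [Finite X] [Nonempty X] [MulAction.IsPretransitive G X] (hM : IsPModular p M)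
    (hI : ∀ x y : X, x ≠ y → ∃ R : Subgroup G, IsPGroup p R ∧ (∀ r ∈ R, r • x = x) ∧ (∀ r ∈ R, r • y = y) ∧
      ∀ k ∈ Subgroup.centralizer (R : Set G), k • x ≠ y)
    (χ : IrrCharacter G) (hχ : classInner (fun g : G => (Nat.card (MulAction.fixedBy X g) : ℂ)) (χ : G → ℂ) ≠ 0) : χ ∈ principalBlock M G := by
  classical
  have hp := hM.2.1.isPrime
  have hpf : Fact p.Prime := ⟨hM.1⟩
  have hXf := Fintype.ofFinite X
  have hirr := χ.2
  -- a point where the kernel does not vanish
  obtain ⟨x, hx⟩ : ∃ x : X, ∑ m : G with m • x = x, (χ : G → ℂ) m⁻¹ ≠ 0 := by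
    by_contra hcon
    push Not at hcon
    apply hχ
    rw [Characters.Core.classInner_def]
    have h1 : ∑ g : G, (Nat.card (MulAction.fixedBy X g) : ℂ) * (starRingEnd ℂ) ((χ : G → ℂ) g) =
        ∑ x : X, ∑ m : G with m • x = x, (χ : G → ℂ) m⁻¹ := by
      have h2 : ∀ g : G, (Nat.card (MulAction.fixedBy X g) : ℂ) * (starRingEnd ℂ) ((χ : G → ℂ) g) =
          ∑ x : X, if g • x = x then (χ : G → ℂ) g⁻¹ else 0 := by
        intro g
        rw [Characters.Core.isCharacter_apply_inv (Characters.Core.isIrr_isCharacter hirr) g, ← Finset.sum_filter,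
          Finset.sum_const, nsmul_eq_mul]
        rw [Nat.card_eq_fintype_card, ← Fintype.card_subtype]
        rfl
      simp only [h2]
      rw [Finset.sum_comm]
      refine Finset.sum_congr rfl fun x _ => ?_
      rw [Finset.sum_filter]
    rw [h1, Finset.sum_eq_zero fun x _ => hcon x, mul_zero]
  intro g
  -- the kernel
  set f : X → ℂ := fun y => ∑ m : G with m • x = y, (χ : G → ℂ) m⁻¹ with hf
  have hfx : f x ≠ 0 := hx
  set w : ℂ := centralChar (χ : G → ℂ) g with hw
  have hmul : ∀ y, w * f y = ∑ y' : X, (cc g y' y : ℂ) * f y' := by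
    intro y
    have h1 : ∑ y' : X, (cc g y' y : ℂ) * f y' = ∑ h : G with IsConj g h, f (h⁻¹ • y) := by
      have h2 : ∀ y', (cc g y' y : ℂ) * f y' = ∑ h : G with IsConj g h, if h⁻¹ • y = y' then f y' else 0 := by
        intro y'
        rw [← Finset.sum_filter, Finset.sum_const, nsmul_eq_mul]
        congr 1
        unfold cc
        rw [Nat.card_eq_fintype_card, Fintype.card_subtype, Finset.filter_filter]
        congr 2
        ext h
        simp only [Finset.mem_filter, Finset.mem_univ, true_and]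
        refine and_congr_right fun _ => ?_
        rw [inv_smul_eq_iff, eq_comm]
      simp only [h2]
      rw [Finset.sum_comm]
      refine Finset.sum_congr rfl fun h _ => ?_
      rw [Finset.sum_ite_eq]
      simp
    rw [h1]
    have h3 : ∀ h : G, f (h⁻¹ • y) = ∑ k : G with k • x = y, (χ : G → ℂ) (h * k⁻¹) := by
      intro h
      simp only [hf]
      refine Finset.sum_bij' (fun m _ => h * m) (fun k _ => h⁻¹ * k) ?_ ?_ ?_ ?_ ?_
      · intro m hm
        rw [Finset.mem_filter] at hm ⊢
        refine ⟨Finset.mem_univ _, ?_⟩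
        rw [mul_smul, hm.2, smul_inv_smul]
      · intro k hk
        rw [Finset.mem_filter] at hk ⊢
        refine ⟨Finset.mem_univ _, ?_⟩
        rw [mul_smul, hk.2]
      · intro m _; group
      · intro k _; group
      · intro m _
        have h4 := Characters.Core.isIrr_isClassFunction hirr m⁻¹ h
        rw [← h4]
        group
    simp only [h3]
    rw [Finset.sum_comm]
    have h5 : ∀ k : G, ∑ h : G with IsConj g h, (χ : G → ℂ) (h * k⁻¹) = w * (χ : G → ℂ) k⁻¹ := by
      intro k
      rw [Characters.ClassMul.sum_class_char_mul hirr g k⁻¹, hw]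
      unfold centralChar
      ring
    simp only [h5, hf, Finset.mul_sum]
  have hdvd : ∀ y' y : X, y' ≠ y → p ∣ cc g y' y := by
    intro y' y hne
    obtain ⟨R, hR, h1, h2, h3⟩ := hI y' y hne
    exact dvd_cc g hR h1 h2 h3
  choose! n hn using hdvd
  have hc0 : ∀ y : X, cc g y y = cc g x x := by
    intro y
    obtain ⟨t, rfl⟩ := MulAction.exists_smul_eq G x y
    exact cc_smul g t x x
  have hsplit : ∀ (F : X → ℂ) (y : X), ∑ y' : X, (cc g y' y : ℂ) * F y' =
      cc g x x * F y + p * ∑ y' : X, (if y' = y then 0 else (n y' y : ℂ) * F y') := by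
    intro F y
    rw [Finset.mul_sum, ← Finset.add_sum_erase _ _ (Finset.mem_univ y), hc0 y]
    congr 1
    rw [← Finset.add_sum_erase _ (fun y' => (p : ℂ) * (if y' = y then 0 else (n y' y : ℂ) * F y')) (Finset.mem_univ y),
      if_pos rfl, mul_zero, zero_add]
    refine Finset.sum_congr rfl fun y' hy' => ?_
    rw [if_neg (Finset.ne_of_mem_erase hy'), hn y' y (Finset.ne_of_mem_erase hy')]
    push_cast
    ring
  have hp0 : (p : ℂ) ≠ 0 := by exact_mod_cast hM.1.ne_zero
  -- the eigenvalue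
  set μ : ℂ := (w - cc g x x) / p with hμ
  have hμf : ∀ y, μ * f y = ∑ y' : X, (if y' = y then 0 else (n y' y : ℂ) * f y') := by
    intro y
    have h1 := hmul y
    rw [hsplit f y] at h1
    rw [hμ, div_mul_eq_mul_div, sub_mul, h1]
    field_simp
    ring
  have hint : IsIntegral ℤ μ := by
    refine isIntegral_of_smul_mem_submodule (R := ℤ) (A := ℂ) (M := ℂ) (Submodule.span ℤ (Set.range f)) ?_
      (Submodule.fg_span (Set.finite_range f)) μ ?_
    · intro h0
      apply hfx
      have h1 : f x ∈ Submodule.span ℤ (Set.range f) := Submodule.subset_span ⟨x, rfl⟩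
      rw [h0] at h1
      simpa using h1
    · intro z hz
      refine Submodule.span_induction (p := fun v _ => μ • v ∈ Submodule.span ℤ (Set.range f)) ?_ ?_ ?_ ?_ hz
      · rintro _ ⟨y, rfl⟩
        rw [smul_eq_mul, hμf]
        refine Submodule.sum_mem _ fun y' _ => ?_
        split_ifs
        · exact Submodule.zero_mem _
        · have h2 : (n y' y : ℂ) * f y' = ((n y' y : ℕ) : ℤ) • f y' := by
            rw [zsmul_eq_mul]
            push_cast
            rfl
          rw [h2]
          exact Submodule.smul_mem _ _ (Submodule.subset_span ⟨y', rfl⟩)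
      · rw [smul_zero]; exact Submodule.zero_mem _
      · intro a b _ _ ha hb
        rw [smul_add]; exact Submodule.add_mem _ ha hb
      · intro k a _ ha
        rw [smul_comm]; exact Submodule.smul_mem _ _ ha
  -- the trivial character
  have hone : centralChar (fun _ : G => (1 : ℂ)) g = cc g x x + p * ∑ y' : X, (if y' = x then 0 else (n y' x : ℂ)) := by
    have h1 := hsplit (fun _ => 1) x
    simp only [mul_one] at h1
    rw [← h1]
    unfold centralChar
    rw [mul_one, div_one, Blocks.Basic.index_centralizer_eq_ncard]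
    have h2 : {h : G | IsConj g h}.ncard = ∑ y' : X, cc g y' x := by
      rw [← Nat.card_coe_set_eq]
      have e : ({h : G | IsConj g h} : Set G) ≃ Σ y' : X, {h : G // IsConj g h ∧ h • y' = x} :=
        ⟨fun h => ⟨h.1⁻¹ • x, h.1, h.2, smul_inv_smul _ _⟩, fun q => ⟨q.2.1, q.2.2.1⟩, fun _ => rfl, fun q =>
          Sigma.subtype_ext (by
            show q.2.1⁻¹ • x = q.1
            rw [inv_smul_eq_iff]
            exact q.2.2.2.symm) rfl⟩
      rw [Nat.card_congr e, Nat.card_sigma]
      rfl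
    rw [h2]
    push_cast
    rfl
  have hwe : w = cc g x x + p * μ := by
    rw [hμ]
    field_simp
    ring
  show MemLocalIdeal M (centralChar (fun _ : G => (1 : ℂ)) g - w)
  rw [hone, hwe]
  have h7 : ((cc g x x : ℂ) + p * ∑ y' : X, (if y' = x then 0 else (n y' x : ℂ))) - (cc g x x + p * μ) =
      p * ((∑ y' : X, (if y' = x then 0 else (n y' x : ℂ))) - μ) := by ring
  rw [h7]
  refine lideal_mul_right hp (lideal_prime hM) ?_
  have h8 : IsIntegral ℤ ((∑ y' : X, (if y' = x then 0 else (n y' x : ℂ))) - μ) := by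
    refine IsIntegral.sub (IsIntegral.sum _ fun y' _ => ?_) hint
    split_ifs
    · exact isIntegral_zero
    · exact_mod_cast isIntegral_algebraMap (R := ℤ) (A := ℂ) (x := ((n y' x : ℕ) : ℤ))
  exact lring_coe hp ⟨_, h8⟩

end Cfsg.Agent.H582.Sph
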