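import Cfsg.Agent.H582.Sph.Lemma

/-!
# The spherical lemma with a base point (helper582)

`G` transitive on the finite set `X`, base point `x₀`, `γ x • x₀ = x`, `e : X → ℂ` constant on the orbits of the stabiliser of
`x₀`, `e x₀ = 1`.  No assumption on the orbitals (they need neither be symmetric nor commute).

* `centralChar_eq` : if `χ g = a * ∑ x, e (γ x⁻¹ g x)` then `centralChar χ g = ∑ y, cc g x₀ y * e y`;
* `sameBlock_of_base`, `mem_principal_of_base` : if `|orbit of y| * e y ≡ |orbit of y| * e' y` modulo `M` for all `y`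
  (orbits of the stabiliser), the two characters are in the same block (`e' = 1`: the principal block).
-/

set_option autoImplicit false

open Cfsg Cfsg.Agent.Blocks.Fong
open scoped BigOperators

namespace Cfsg.Agent.H582.Sph

universe u v

variable {G : Type u} [Group G] {X : Type v} [MulAction G X] {p : ℕ} {M : Ideal AlgInt}

/-- `x ↦ ∑ e (γ x⁻¹ g x)`, up to a factor: the values of the character of a spherical function -/
def HasSph (G : Type u) [Group G] [Finite G] {X : Type v} [Fintype X] [MulAction G X] (x₀ : X) (γ : X → G) (e : X → ℂ)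
    (χ : G → ℂ) : Prop :=
  (∀ q : G, q • x₀ = x₀ → ∀ x, e (q • x) = e x) ∧ e x₀ = 1 ∧
    ∃ a : ℂ, a ≠ 0 ∧ ∀ g, χ g = a * ∑ x : X, e ((γ x)⁻¹ • g • x)

theorem sum_conj_class [Fintype G] [DecidableEq G] [Fintype X] {x₀ : X} {γ : X → G} (hγ : ∀ x, γ x • x₀ = x) {e : X → ℂ}
    (heQ : ∀ q : G, q • x₀ = x₀ → ∀ x, e (q • x) = e x) (t g : G) :
    ∑ x : X, e ((γ x)⁻¹ • (t * g * t⁻¹) • x) = ∑ x : X, e ((γ x)⁻¹ • g • x) := by
  rw [← Equiv.sum_comp (MulAction.toPerm t) (fun x => e ((γ x)⁻¹ • (t * g * t⁻¹) • x))]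
  refine Finset.sum_congr rfl fun x _ => ?_
  rw [MulAction.toPerm_apply]
  have h1 : ((γ x)⁻¹ * t⁻¹ * γ (t • x)) • x₀ = x₀ := by
    rw [mul_smul, mul_smul, hγ, inv_smul_smul, inv_smul_eq_iff, hγ]
  have h2 := heQ _ h1 ((γ (t • x))⁻¹ • (t * g * t⁻¹) • t • x)
  rw [← h2, ← mul_smul, ← mul_smul, ← mul_smul, ← mul_smul]
  congr 2
  group

/-- **The central character** of the character of a spherical function. -/
theorem centralChar_eq [Finite G] [Fintype X] {x₀ : X} {γ : X → G} (hγ : ∀ x, γ x • x₀ = x) {e : X → ℂ} {χ : G → ℂ}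
    (hs : HasSph G x₀ γ e χ) (g : G) : centralChar χ g = ∑ y : X, (cc g x₀ y : ℂ) * e y := by
  classical
  have hG := Fintype.ofFinite G
  obtain ⟨heQ, he1, a, ha, hχ⟩ := hs
  have hX0 : (Fintype.card X : ℂ) ≠ 0 := by
    have : Nonempty X := ⟨x₀⟩
    exact_mod_cast Fintype.card_ne_zero
  have h1 : χ 1 = a * Fintype.card X := by
    rw [hχ]
    have h2 : ∀ x : X, e ((γ x)⁻¹ • (1 : G) • x) = 1 := by
      intro x
      rw [one_smul, show (γ x)⁻¹ • x = x₀ from by rw [inv_smul_eq_iff, hγ], he1]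
    simp only [h2, Finset.sum_const, Finset.card_univ, nsmul_eq_mul, mul_one]
  have h3 : ((Subgroup.centralizer ({g} : Set G)).index : ℂ) * ∑ x : X, e ((γ x)⁻¹ • g • x) =
      Fintype.card X * ∑ y : X, (cc g x₀ y : ℂ) * e y := by
    have h4 : ((Subgroup.centralizer ({g} : Set G)).index : ℂ) * ∑ x : X, e ((γ x)⁻¹ • g • x) =
        ∑ h : G with IsConj g h, ∑ x : X, e ((γ x)⁻¹ • h • x) := by
      have hcl : ∀ h ∈ Finset.univ.filter (IsConj g), ∑ x : X, e ((γ x)⁻¹ • h • x) = ∑ x : X, e ((γ x)⁻¹ • g • x) := by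
        intro h hh
        obtain ⟨t, rfl⟩ := isConj_iff.1 (Finset.mem_filter.1 hh).2
        exact sum_conj_class hγ heQ t g
      rw [Finset.sum_congr rfl hcl, Finset.sum_const, nsmul_eq_mul, Characters.ClassMul.card_filter_isConj]
    have h5 : ∀ x : X, ∑ h : G with IsConj g h, e ((γ x)⁻¹ • h • x) = ∑ h : G with IsConj g h, e (h • x₀) := by
      intro x
      refine Finset.sum_bij' (fun h _ => (γ x)⁻¹ * h * γ x) (fun h _ => γ x * h * (γ x)⁻¹) ?_ ?_ ?_ ?_ ?_
      · intro h hh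
        rw [Finset.mem_filter] at hh ⊢
        exact ⟨Finset.mem_univ _, hh.2.trans (isConj_iff.2 ⟨(γ x)⁻¹, by group⟩)⟩
      · intro h hh
        rw [Finset.mem_filter] at hh ⊢
        exact ⟨Finset.mem_univ _, hh.2.trans (isConj_iff.2 ⟨γ x, rfl⟩)⟩
      · intro h _; group
      · intro h _; group
      · intro h _
        rw [mul_smul, mul_smul, hγ]
    have h6 : ∑ h : G with IsConj g h, e (h • x₀) = ∑ y : X, (cc g x₀ y : ℂ) * e y := by
      rw [← Finset.sum_fiberwise_of_maps_to (s := Finset.univ.filter (IsConj g)) (t := Finset.univ)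
        (g := fun h : G => h • x₀) (fun _ _ => Finset.mem_univ _)]
      refine Finset.sum_congr rfl fun y _ => ?_
      rw [Finset.sum_congr rfl (g := fun _ => e y) (fun h hh => by rw [(Finset.mem_filter.1 hh).2]), Finset.sum_const,
        nsmul_eq_mul]
      congr 2
      unfold cc
      rw [Nat.card_eq_fintype_card, Fintype.card_subtype, Finset.filter_filter]
    rw [h4, Finset.sum_comm]
    simp only [h5, h6, Finset.sum_const, Finset.card_univ, nsmul_eq_mul]
  unfold centralChar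
  rw [h1, hχ g, ← mul_left_cancel₀ hX0 (a := (Fintype.card X : ℂ)) (b := ((Subgroup.centralizer ({g} : Set G)).index : ℂ) *
    (a * ∑ x : X, e ((γ x)⁻¹ • g • x)) / (a * Fintype.card X)) (c := ∑ y : X, (cc g x₀ y : ℂ) * e y)]
  rw [← h3]
  field_simp

/-- The pair `(x, y)` is not `p`-essential. -/
def Ines (p : ℕ) (G : Type u) [Group G] {X : Type v} [MulAction G X] (x y : X) : Prop :=
  ∃ R : Subgroup G, IsPGroup p R ∧ (∀ r ∈ R, r • x = x) ∧ (∀ r ∈ R, r • y = y) ∧
    ∀ k ∈ Subgroup.centralizer (R : Set G), k • x ≠ y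

/-- **The spherical lemma** (base point form, two characters). -/
theorem sameBlock_of_base [Finite G] [Fintype X] (hM : IsPModular p M) {x₀ : X} {γ : X → G} (hγ : ∀ x, γ x • x₀ = x)
    {e e' : X → ℂ} {χ ψ : G → ℂ} (hs : HasSph G x₀ γ e χ) (hs' : HasSph G x₀ γ e' ψ)
    (hc : ∀ y : X, MemLocalIdeal M ((Nat.card (MulAction.orbit (MulAction.stabilizer G x₀) y) : ℂ) * (e y - e' y)) ∨
      (MemLocalRing M ((Nat.card (MulAction.orbit (MulAction.stabilizer G x₀) y) : ℂ) * (e y - e' y)) ∧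
        Ines p G x₀ y)) : SameBlock M χ ψ := by
  classical
  have hp := hM.2.1.isPrime
  have hpf : Fact p.Prime := ⟨hM.1⟩
  intro g
  rw [centralChar_eq hγ hs, centralChar_eq hγ hs', ← Finset.sum_sub_distrib]
  have h1 : ∀ y : X, (cc g x₀ y : ℂ) * e y - (cc g x₀ y : ℂ) * e' y = (cc g x₀ y : ℂ) * (e y - e' y) := fun y => by ring
  simp only [h1]
  -- sum over the orbits of the stabiliser
  set Q := MulAction.stabilizer G x₀ with hQ
  have hof := Fintype.ofFinite (MulAction.orbitRel.Quotient Q X)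
  rw [← Finset.sum_fiberwise_of_maps_to (s := Finset.univ) (t := Finset.univ)
    (g := fun y : X => (Quotient.mk'' y : MulAction.orbitRel.Quotient Q X)) (fun _ _ => Finset.mem_univ _)]
  refine lideal_sum hp _ fun q _ => ?_
  obtain ⟨y, rfl⟩ := Quotient.exists_rep q
  have h2 : ∀ z ∈ Finset.univ.filter fun z : X => (Quotient.mk'' z : MulAction.orbitRel.Quotient Q X) = ⟦y⟧,
      (cc g x₀ z : ℂ) * (e z - e' z) = (cc g x₀ y : ℂ) * (e y - e' y) := by
    intro z hz
    have h3 : z ∈ MulAction.orbit Q y := by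
      have h4 := (Finset.mem_filter.1 hz).2
      exact MulAction.orbitRel_apply.1 (Quotient.exact h4)
    obtain ⟨⟨s, hs1⟩, rfl⟩ := h3
    have hsx : s • x₀ = x₀ := hs1
    show (cc g x₀ (s • y) : ℂ) * (e (s • y) - e' (s • y)) = _
    rw [hs.1 s hsx, hs'.1 s hsx]
    congr 2
    have h5 := cc_smul g s x₀ y
    rwa [hsx] at h5
  rw [Finset.sum_congr rfl h2, Finset.sum_const, nsmul_eq_mul]
  have h6 : ((Finset.univ.filter fun z : X => (Quotient.mk'' z : MulAction.orbitRel.Quotient Q X) = ⟦y⟧).card : ℂ) =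
      Nat.card (MulAction.orbit Q y) := by
    congr 1
    rw [Nat.card_eq_fintype_card, ← Set.toFinset_card]
    congr 1
    ext z
    simp only [Finset.mem_filter, Finset.mem_univ, true_and, Set.mem_toFinset]
    constructor
    · intro h; exact MulAction.orbitRel_apply.1 (Quotient.exact h)
    · intro h; exact Quotient.sound (MulAction.orbitRel_apply.2 h)
  rw [h6]
  have h7 : (Nat.card (MulAction.orbit Q y) : ℂ) * ((cc g x₀ y : ℂ) * (e y - e' y)) =
      (cc g x₀ y : ℂ) * ((Nat.card (MulAction.orbit Q y) : ℂ) * (e y - e' y)) := by ring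
  rw [h7]
  rcases hc y with h8 | ⟨h8, R, hR, hRx, hRy, hC⟩
  · exact lideal_mul_left hp (lring_nat hp _) h8
  · obtain ⟨m, hm⟩ := dvd_cc (p := p) g hR hRx hRy hC
    rw [hm]
    push_cast
    rw [mul_assoc]
    refine lideal_mul_right hp (lideal_prime hM) ?_
    obtain ⟨r, s, hs1, hrs⟩ := h8
    refine ⟨(m : AlgInt) * r, s, hs1, ?_⟩
    rw [← hrs]
    push_cast
    ring

theorem hasSph_one [Finite G] [Fintype X] (x₀ : X) (γ : X → G) : HasSph G x₀ γ (fun _ => 1) (fun _ => 1) := by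
  have hX0 : (Fintype.card X : ℂ) ≠ 0 := by
    have : Nonempty X := ⟨x₀⟩
    exact_mod_cast Fintype.card_ne_zero
  refine ⟨fun _ _ _ => rfl, rfl, (Fintype.card X : ℂ)⁻¹, inv_ne_zero hX0, fun g => ?_⟩
  simp only [Finset.sum_const, Finset.card_univ, nsmul_eq_mul, mul_one]
  rw [inv_mul_cancel₀ hX0]

/-- **The spherical lemma for the principal block** (base point form). -/
theorem mem_principal_of_base' [Finite G] [Fintype X] (hM : IsPModular p M) {x₀ : X} {γ : X → G} (hγ : ∀ x, γ x • x₀ = x)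
    {e : X → ℂ} (χ : IrrCharacter G) (hs : HasSph G x₀ γ e (χ : G → ℂ))
    (hc : ∀ y : X, MemLocalIdeal M ((Nat.card (MulAction.orbit (MulAction.stabilizer G x₀) y) : ℂ) * (e y - 1)) ∨
      (MemLocalRing M ((Nat.card (MulAction.orbit (MulAction.stabilizer G x₀) y) : ℂ) * (e y - 1)) ∧
        Ines p G x₀ y)) : χ ∈ principalBlock M G := by
  intro g
  have h1 := sameBlock_of_base hM hγ hs (hasSph_one x₀ γ) hc g
  have h2 := lideal_neg h1
  rwa [neg_sub] at h2

/-- **The spherical lemma for the principal block** (base point form). -/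
theorem mem_principal_of_base [Finite G] [Fintype X] (hM : IsPModular p M) {x₀ : X} {γ : X → G} (hγ : ∀ x, γ x • x₀ = x)
    {e : X → ℂ} (χ : IrrCharacter G) (hs : HasSph G x₀ γ e (χ : G → ℂ))
    (hc : ∀ y : X, MemLocalIdeal M ((Nat.card (MulAction.orbit (MulAction.stabilizer G x₀) y) : ℂ) * (e y - 1))) :
    χ ∈ principalBlock M G :=
  mem_principal_of_base' hM hγ χ hs fun y => Or.inl (hc y)

/-- Rational spherical values with integral eigenvalues divisible by `p`. -/
theorem mem_principal_of_base_int [Finite G] [Fintype X] (hM : IsPModular p M) {x₀ : X} {γ : X → G}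
    (hγ : ∀ x, γ x • x₀ = x) {e : X → ℚ} (χ : IrrCharacter G) (hs : HasSph G x₀ γ (fun x => (e x : ℂ)) (χ : G → ℂ))
    (hc : ∀ y : X, ∃ m v : ℤ, ¬ (p : ℤ) ∣ v ∧
      (v : ℚ) * ((Nat.card (MulAction.orbit (MulAction.stabilizer G x₀) y) : ℚ) * (e y - 1)) = p * m) :
    χ ∈ principalBlock M G := by
  have hp := hM.2.1.isPrime
  refine mem_principal_of_base hM hγ χ hs fun y => ?_
  obtain ⟨m, v, hv, h1⟩ := hc y
  refine ⟨(p : AlgInt) * (m : AlgInt), (v : AlgInt), M.mul_mem_right _ hM.2.2, ?_, ?_⟩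
  · intro h2
    have h3 : IsCoprime (p : ℤ) v := ((Nat.prime_iff_prime_int.1 hM.1).coprime_iff_not_dvd).2 hv
    obtain ⟨r, s, h4⟩ := h3
    have h5 : (1 : AlgInt) ∈ M := by
      have h6 : (1 : AlgInt) = (r : AlgInt) * (p : AlgInt) + (s : AlgInt) * (v : AlgInt) := by
        exact_mod_cast (congrArg (fun z : ℤ => (z : AlgInt)) h4).symm
      rw [h6]
      exact M.add_mem (M.mul_mem_left _ hM.2.2) (M.mul_mem_left _ h2)
    exact hp.ne_top ((Ideal.eq_top_iff_one M).2 h5)
  · have hv0 : (v : ℂ) ≠ 0 := by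
      intro h0
      apply hv
      have : v = 0 := by exact_mod_cast h0
      rw [this]
      exact dvd_zero _
    have h7 := congrArg (fun z : ℚ => (z : ℂ)) h1
    push_cast at h7
    push_cast
    rw [div_eq_iff hv0, ← h7]
    ring

end Cfsg.Agent.H582.Sph
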