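import Cfsg.Agent.H658.MajorVal
import Cfsg.Agent.Blocks.SectionSum
import Cfsg.Agent.Blocks.Induced
import Cfsg.Agent.Blocks.PrincipalSection
import Cfsg.Agent.Characters.SchurBound

/-!
# A bound for the number of classes of central `p`-elements, from one rational character

`M` is `p`-modular, `χ` an irreducible rational valued character in the principal block, `p ^ h`
divides the degree of `χ`, `1 ≤ h`, `p ^ d` is the `p`-part of `|G|`.

`cr p u χ = |C(u)|⁻¹ ∑_{y ∈ C(u) p-regular} ‖χ (u y)‖ ^ 2` is the contribution of the section of the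
`p`-element `u` to the norm of `χ`.

* `le_cr`: `p ^ (h + 1) ≤ p ^ d * cr p u χ` if `p` does not divide the length of the class of `u`;
* `card_mul_le`: `T.card * p ^ (h + 1) ≤ p ^ d` for a set `T` of pairwise non-conjugate
  `p`-elements with class lengths prime to `p`;
* `not_mem_principalBlock`: the form used to exclude `χ` from the principal block;
* `add_lt`: if `G` has an element `y` of order `p ^ a`, `1 ≤ a`, with class length prime to `p`, then
  `h + a < d`; `not_mem_of_le_add`: the contrapositive.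
-/

set_option autoImplicit false
set_option linter.unusedSectionVars false

open Cfsg
open scoped ComplexConjugate

namespace Cfsg.Agent.H582.Sph.BF

open Cfsg.Agent.Blocks.Blau Cfsg.Agent.Blocks.Local Cfsg.Agent.Characters
open Cfsg.Agent.H613.RegGram Cfsg.Agent.H613.Contrib Cfsg.Agent.H613.ContribVal

section defs

variable {G : Type*} [Group G]

open Classical in
/-- The contribution of the section of `u` to the norm of `χ`. -/
noncomputable def cr [Fintype G] (p : ℕ) (u : G) (χ : G → ℂ) : ℝ :=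
  (Nat.card (Subgroup.centralizer ({u} : Set G)) : ℝ)⁻¹ *
    ∑ y ∈ Finset.univ.filter (fun y : G => Commute u y ∧ ¬ p ∣ orderOf y), ‖χ (u * y)‖ ^ 2

open Classical in
theorem sum_filter_commute [Fintype G] (p : ℕ) {u : G} {H : Subgroup G} [Fintype H]
    (hH : H = Subgroup.centralizer ({u} : Set G)) {A : Type*} [AddCommMonoid A] (f : G → A) :
    ∑ y ∈ Finset.univ.filter (fun y : G => Commute u y ∧ ¬ p ∣ orderOf y), f y =
      ∑ y : H with ¬ p ∣ orderOf y, f (y : G) := by
  symm
  refine Finset.sum_bij (fun y _ => (y : G)) ?_ ?_ ?_ ?_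
  · intro y hy
    have h1 := (Finset.mem_filter.1 hy).2
    have h2 : (y : G) ∈ Subgroup.centralizer ({u} : Set G) := by rw [← hH]; exact y.2
    rw [Subgroup.mem_centralizer_singleton_iff] at h2
    refine Finset.mem_filter.2 ⟨Finset.mem_univ _, h2.symm, ?_⟩
    rwa [Subgroup.orderOf_coe]
  · intro a _ b _ hab
    exact Subtype.ext hab
  · intro y hy
    obtain ⟨h1, h2⟩ := (Finset.mem_filter.1 hy).2
    have h3 : y ∈ H := by
      rw [hH, Subgroup.mem_centralizer_singleton_iff]
      exact h1.symm.eq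
    refine ⟨⟨y, h3⟩, Finset.mem_filter.2 ⟨Finset.mem_univ _, ?_⟩, rfl⟩
    rwa [Subgroup.orderOf_mk]
  · intro _ _
    rfl

/-- `cr` as a Hermitian product over the `p`-regular elements of the centralizer. -/
theorem cr_eq_rg [Fintype G] (p : ℕ) {u : G} {H : Subgroup G} [Fintype H]
    (hH : H = Subgroup.centralizer ({u} : Set G)) (χ : G → ℂ) :
    ((cr p u χ : ℝ) : ℂ) = rg p (fun c : H => χ (u * (c : G))) (fun c : H => χ (u * (c : G))) := by
  classical
  unfold cr
  rw [sum_filter_commute p hH, rg_def, pair_eq_sum_filter, ← hH]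
  push_cast
  congr 1
  refine Finset.sum_congr rfl fun y _ => ?_
  rw [Complex.mul_conj, Complex.normSq_eq_norm_sq]
  push_cast
  rfl

theorem cr_nonneg [Fintype G] (p : ℕ) (u : G) (χ : G → ℂ) : 0 ≤ cr p u χ := by
  unfold cr
  refine mul_nonneg (inv_nonneg.2 (Nat.cast_nonneg _)) (Finset.sum_nonneg fun _ _ => ?_)
  positivity

theorem cr_pos [Fintype G] {p : ℕ} (hp : p.Prime) {u : G} {χ : G → ℂ} (h : χ u ≠ 0) :
    0 < cr p u χ := by
  classical
  unfold cr
  have h1 : (0 : ℝ) < (Nat.card (Subgroup.centralizer ({u} : Set G)) : ℝ) := by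
    exact_mod_cast Nat.card_pos
  refine mul_pos (inv_pos.2 h1) (Finset.sum_pos' (fun _ _ => by positivity) ⟨1, ?_, ?_⟩)
  · refine Finset.mem_filter.2 ⟨Finset.mem_univ _, Commute.one_right u, ?_⟩
    rw [orderOf_one]
    exact hp.one_lt.not_ge ∘ Nat.le_of_dvd Nat.one_pos
  · rw [mul_one]
    have := norm_pos_iff.2 h
    positivity

/-- The contributions of sections with disjoint classes. -/
theorem sum_cr_le [Fintype G] (p : ℕ) [Fact p.Prime] (χ : IrrCharacter G) (T : Finset G)
    (hT : ∀ u ∈ T, ∃ k : ℕ, orderOf u = p ^ k)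
    (hTT : ∀ u ∈ T, ∀ v ∈ T, IsConj u v → u = v) :
    ∑ u ∈ T, cr p u (χ : G → ℂ) ≤ 1 := by
  classical
  have hχ := Core.isIrr_isClassFunction χ.2
  have hG : (0 : ℝ) < (Nat.card G : ℝ) := by exact_mod_cast Nat.card_pos
  let B : G → ℝ := fun x =>
    ∑ y ∈ Finset.univ.filter (fun y : G => Commute x y ∧ ¬ p ∣ orderOf y), ‖(χ : G → ℂ) (x * y)‖ ^ 2
  have hB0 : ∀ x, 0 ≤ B x := fun x => Finset.sum_nonneg fun _ _ => by positivity
  have htot : ∑ x ∈ Finset.univ.filter (fun x : G => ∃ k : ℕ, orderOf x = p ^ k), B x =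
      (Nat.card G : ℝ) := by
    rw [← Blocks.SectionSum.sum_norm_sq χ, Blocks.SectionSum.sum_eq_sum_sections p]
  have hBconj : ∀ u x : G, IsConj u x → B x = B u := by
    intro u x hux
    obtain ⟨c, rfl⟩ := isConj_iff.1 hux
    symm
    refine Finset.sum_bij (fun y _ => c * y * c⁻¹) ?_ ?_ ?_ ?_
    · intro y hy
      obtain ⟨h1, h2⟩ := (Finset.mem_filter.1 hy).2
      refine Finset.mem_filter.2 ⟨Finset.mem_univ _, ?_, ?_⟩
      · rw [Commute, SemiconjBy]
        calc c * u * c⁻¹ * (c * y * c⁻¹) = c * (u * y) * c⁻¹ := by group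
          _ = c * (y * u) * c⁻¹ := by rw [h1.eq]
          _ = c * y * c⁻¹ * (c * u * c⁻¹) := by group
      · have h3 : orderOf (c * y * c⁻¹) = orderOf y := by
          have := orderOf_injective (MulAut.conj c).toMonoidHom (MulAut.conj c).injective y
          simpa using this
        rwa [h3]
    · intro a _ b _ hab
      simpa using hab
    · intro z hz
      obtain ⟨h1, h2⟩ := (Finset.mem_filter.1 hz).2
      refine ⟨c⁻¹ * z * c, Finset.mem_filter.2 ⟨Finset.mem_univ _, ?_, ?_⟩, by group⟩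
      · have h3 : c * u * c⁻¹ * z = z * (c * u * c⁻¹) := h1.eq
        rw [Commute, SemiconjBy]
        calc u * (c⁻¹ * z * c) = c⁻¹ * (c * u * c⁻¹ * z) * c := by group
          _ = c⁻¹ * (z * (c * u * c⁻¹)) * c := by rw [h3]
          _ = c⁻¹ * z * c * u := by group
      · have h3 : orderOf (c⁻¹ * z * c) = orderOf z := by
          have := orderOf_injective (MulAut.conj c⁻¹).toMonoidHom (MulAut.conj c⁻¹).injective z
          simpa using this
        rwa [h3]
    · intro y _
      have h4 : c * u * c⁻¹ * (c * y * c⁻¹) = c * (u * y) * c⁻¹ := by group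
      rw [h4, hχ]
  have hcr : ∀ u : G, (Nat.card G : ℝ) * cr p u (χ : G → ℂ) =
      ∑ x ∈ Finset.univ.filter (fun x : G => IsConj u x), B x := by
    intro u
    have h1 : ∀ x ∈ Finset.univ.filter (fun x : G => IsConj u x), B x = B u := fun x hx =>
      hBconj u x (Finset.mem_filter.1 hx).2
    rw [Finset.sum_congr rfl h1, Finset.sum_const, nsmul_eq_mul]
    have h2 : (Finset.univ.filter (fun x : G => IsConj u x)).card =
        (Subgroup.centralizer ({u} : Set G)).index := by
      rw [← Blocks.Induced.ncard_conj_eq_index, ← Set.ncard_coe_finset]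
      congr 1
      ext y
      simp
    have h3 : (Nat.card (Subgroup.centralizer ({u} : Set G)) : ℝ) ≠ 0 := by
      exact_mod_cast Nat.card_pos.ne'
    have h4 : (Nat.card G : ℝ) = (Subgroup.centralizer ({u} : Set G)).index *
        (Nat.card (Subgroup.centralizer ({u} : Set G)) : ℝ) := by
      exact_mod_cast (Subgroup.index_mul_card _).symm
    rw [h2, h4]
    unfold cr
    change _ * _ * (_ * B u) = _
    field_simp
  have hdis : ∀ u ∈ T, ∀ v ∈ T, u ≠ v →
      Disjoint (Finset.univ.filter (fun x : G => IsConj u x))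
        (Finset.univ.filter (fun x : G => IsConj v x)) := by
    intro u hu v hv huv
    rw [Finset.disjoint_left]
    intro x hx hx'
    exact huv (hTT u hu v hv ((Finset.mem_filter.1 hx).2.trans (Finset.mem_filter.1 hx').2.symm))
  have h1 : (Nat.card G : ℝ) * ∑ u ∈ T, cr p u (χ : G → ℂ) ≤ (Nat.card G : ℝ) := by
    rw [Finset.mul_sum, Finset.sum_congr rfl fun u _ => hcr u, ← Finset.sum_biUnion hdis]
    conv_rhs => rw [← htot]
    refine Finset.sum_le_sum_of_subset_of_nonneg ?_ fun x _ _ => hB0 x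
    intro x hx
    obtain ⟨u, hu, hux⟩ := Finset.mem_biUnion.1 hx
    obtain ⟨k, hk⟩ := hT u hu
    obtain ⟨c, rfl⟩ := isConj_iff.1 (Finset.mem_filter.1 hux).2
    refine Finset.mem_filter.2 ⟨Finset.mem_univ _, k, ?_⟩
    have := orderOf_injective (MulAut.conj c).toMonoidHom (MulAut.conj c).injective u
    rw [← hk]
    simpa using this
  have h2 : (Nat.card G : ℝ) * ∑ u ∈ T, cr p u (χ : G → ℂ) ≤ (Nat.card G : ℝ) * 1 := by
    rwa [mul_one]
  exact le_of_mul_le_mul_left h2 hG

end defs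

section main

variable {G : Type*} [Group G] [Fintype G] {p : ℕ} [Fact p.Prime] {M : Ideal AlgInt}

/-- The contribution times the `p`-part of the order is an algebraic integer. -/
theorem isIntegral_pow_mul_cr {u : G} (hu : ∃ k : ℕ, orderOf u = p ^ k) (χ : IrrCharacter G) :
    IsIntegral ℤ ((p : ℂ) ^ (Nat.card G).factorization p * ((cr p u (χ : G → ℂ) : ℝ) : ℂ)) := by
  classical
  have hp : p.Prime := Fact.out
  let H : Subgroup G := Subgroup.centralizer ({u} : Set G)
  have := Fintype.ofFinite H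
  have := Core.finite_irr (G := H)
  have := Fintype.ofFinite (IrrCharacter H)
  obtain ⟨j, n, e, hE⟩ := H658.exists_exp' hu (H := H) rfl
  have hf : (fun c : H => (χ : G → ℂ) (u * (c : G))) =
      ∑ ξ : IrrCharacter H, ((n χ ξ : ℂ) * e ξ) • (ξ : H → ℂ) := by
    funext c
    have h1 := hE.expand χ 1 c
    rw [pow_one] at h1
    rw [h1, Finset.sum_apply]
    refine Finset.sum_congr rfl fun ξ _ => ?_
    rw [pow_one]
    rfl
  have hsum : rg p (fun c : H => (χ : G → ℂ) (u * (c : G)))
      (fun c : H => (χ : G → ℂ) (u * (c : G))) =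
      ∑ ξ : IrrCharacter H, ∑ η : IrrCharacter H, ((n χ ξ : ℂ) * e ξ) *
        (conj ((n χ η : ℂ) * e η) * rg p (ξ : H → ℂ) (η : H → ℂ)) := by
    conv_lhs => rw [hf]
    rw [rg_sum_smul_left]
    refine Finset.sum_congr rfl fun ξ _ => ?_
    rw [← conj_rg, rg_sum_smul_left, map_sum, Finset.mul_sum]
    refine Finset.sum_congr rfl fun η _ => ?_
    rw [map_mul, conj_rg]
  rw [cr_eq_rg p (H := H) rfl, hsum, Finset.mul_sum]
  have hdvd : (Nat.card H).factorization p ≤ (Nat.card G).factorization p :=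
    (Nat.factorization_le_iff_dvd Nat.card_pos.ne' Nat.card_pos.ne').2
      (Subgroup.card_subgroup_dvd_card H) p
  obtain ⟨t, ht⟩ := Nat.exists_eq_add_of_le hdvd
  have hq : p ^ j ≠ 0 := pow_ne_zero _ hp.ne_zero
  refine IsIntegral.sum _ fun ξ _ => ?_
  rw [Finset.mul_sum]
  refine IsIntegral.sum _ fun η _ => ?_
  obtain ⟨k, hk⟩ := exists_int_card_mul_rg (p := p) ξ η
  have h1 : (p : ℂ) ^ (Nat.card G).factorization p * (((n χ ξ : ℂ) * e ξ) *
        (conj ((n χ η : ℂ) * e η) * rg p (ξ : H → ℂ) (η : H → ℂ))) =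
      ((p : ℤ) ^ t : ℤ) * (k : ℂ) * (((n χ ξ : ℤ) : ℂ) * e ξ) *
        (((n χ η : ℤ) : ℂ) * conj (e η)) := by
    rw [← hk, ht, pow_add]
    push_cast
    rw [map_mul, Complex.conj_natCast]
    ring
  rw [h1]
  have hi : ∀ z : ℤ, IsIntegral ℤ (z : ℂ) := fun z => isIntegral_algebraMap (R := ℤ) (x := z)
  have he : ∀ ξ : IrrCharacter H, IsIntegral ℤ (e ξ) := fun ξ =>
    H658.isIntegral_of_pow_eq_one hq (hE.root ξ)
  exact (((hi _).mul (hi _)).mul ((hi _).mul (he ξ))).mul ((hi _).mul
    (H658.isIntegral_conj (he η)))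

/-- The normalised contribution: an algebraic integer in the local ideal. -/
theorem scaled (hM : IsPModular p M) {u : G} (hu : ∃ k : ℕ, orderOf u = p ^ k)
    {χ : IrrCharacter G} (hχ : χ ∈ principalBlock M G) (hdeg : p ∣ charDegree (χ : G → ℂ)) :
    IsIntegral ℤ ((Nat.card G : ℂ) * ((cr p u (χ : G → ℂ) : ℝ) : ℂ) / (χ : G → ℂ) 1) ∧
      MemLocalIdeal M ((Nat.card G : ℂ) * ((cr p u (χ : G → ℂ) : ℝ) : ℂ) / (χ : G → ℂ) 1) := by
  classical
  have := isPrime_of_isPModular hM
  have hp : p.Prime := Fact.out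
  let H : Subgroup G := Subgroup.centralizer ({u} : Set G)
  have := Fintype.ofFinite H
  have hcf := Core.isIrr_isClassFunction χ.2
  have hcH : IsClassFunction H (fun c : H => (χ : G → ℂ) (u * (c : G))) :=
    isClassFunction_mul rfl hcf
  have hχ1 := apply_one_ne_zero χ
  obtain ⟨F, hF, hFi, hFs⟩ := H658.lift_exists hu (H := H) rfl
    (fun y => conj (regPart p (fun c : H => (χ : G → ℂ) (u * (c : G))) y))
    (by
      intro g h
      change conj _ = conj _
      rw [regPart_isClassFunction hcH g h])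
    (by
      intro y hy
      rw [regPart_of_dvd hy, map_zero])
    (by
      intro y
      refine H658.isIntegral_conj ?_
      by_cases hy : p ∣ orderOf y
      · rw [regPart_of_dvd hy]; exact isIntegral_zero
      · rw [regPart_of_not_dvd hy]; exact Blocks.Central.isIntegral_irr χ.2 _)
  obtain ⟨F', hF', hFi', hFs'⟩ := H658.lift_exists hu (H := H) rfl
    (regPart p (fun _ : H => (1 : ℂ)))
    (regPart_isClassFunction (fun _ _ => rfl))
    (fun y hy => regPart_of_dvd hy)
    (by
      intro y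
      by_cases hy : p ∣ orderOf y
      · rw [regPart_of_dvd hy]; exact isIntegral_zero
      · rw [regPart_of_not_dvd hy]; exact isIntegral_one)
  have h1 : ∑ g : G, F g * (χ : G → ℂ) g =
      (Nat.card G : ℂ) * ((cr p u (χ : G → ℂ) : ℝ) : ℂ) := by
    rw [hFs _ hcf, cr_eq_rg p (H := H) rfl, rg_def, pair_eq_sum_filter]
    congr 2
    rw [Finset.sum_filter]
    refine Finset.sum_congr rfl fun y _ => ?_
    by_cases hy : p ∣ orderOf y
    · rw [regPart_of_dvd hy, if_neg (not_not.2 hy), map_zero, mul_zero]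
    · rw [regPart_of_not_dvd hy, if_pos hy]
  have h2 : ∑ g : G, F g = conj (∑ g : G, F' g * (χ : G → ℂ) g) := by
    have h3 := hFs (fun _ => 1) (fun _ _ => rfl)
    simp only [mul_one, one_mul] at h3
    rw [h3, hFs' _ hcf, map_mul, map_mul, map_inv₀, Complex.conj_natCast, Complex.conj_natCast,
      map_sum]
    congr 2
    refine Finset.sum_congr rfl fun y _ => ?_
    by_cases hy : p ∣ orderOf y
    · rw [regPart_of_dvd hy, regPart_of_dvd hy, mul_zero]
    · rw [regPart_of_not_dvd hy, regPart_of_not_dvd hy, mul_one]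
  have h3 := Blocks.SepCentral.isIntegral_lin_div' χ.2 hF' hFi'
  rw [Blocks.ConvCentral.lin_def] at h3
  have h4 : MemLocalIdeal M (∑ g : G, F g) := by
    obtain ⟨m, hm⟩ := hdeg
    have h5 : ∑ g : G, F g = (p : ℂ) * ((m : ℂ) *
        conj ((∑ g : G, F' g * (χ : G → ℂ) g) / (χ : G → ℂ) 1)) := by
      have h6 : (χ : G → ℂ) 1 = (p : ℂ) * (m : ℂ) := by
        rw [apply_one_eq_charDegree, hm]
        push_cast
        rfl
      rw [h2, map_div₀, h6, map_mul, Complex.conj_natCast, Complex.conj_natCast]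
      have h7 : (p : ℂ) * (m : ℂ) ≠ 0 := by rw [← h6]; exact hχ1
      have h8 : (p : ℂ) ≠ 0 := left_ne_zero_of_mul h7
      have h9 : (m : ℂ) ≠ 0 := right_ne_zero_of_mul h7
      field_simp
    rw [h5]
    exact memLocalIdeal_mul_right (memLocalIdeal_p hM) (memLocalRing_mul (memLocalRing_natCast _)
      (memLocalRing_of_isIntegral (H658.isIntegral_conj h3)))
  have h5 : SameBlock M (fun _ : G => (1 : ℂ)) (χ : G → ℂ) := hχ
  have h6 := Blocks.ClassSum.memLocalIdeal_of_sameBlock (ψ := (χ : G → ℂ))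
    (fun _ _ => rfl) hcf h5 hF
    (fun g => memLocalRing_of_isIntegral (hFi g))
  have h7 : ∑ g : G, F g * ((χ : G → ℂ) g / (χ : G → ℂ) 1) =
      (Nat.card G : ℂ) * ((cr p u (χ : G → ℂ) : ℝ) : ℂ) / (χ : G → ℂ) 1 := by
    rw [← h1, Finset.sum_div]
    exact Finset.sum_congr rfl fun g _ => by rw [mul_div_assoc]
  constructor
  · have h8 := Blocks.SepCentral.isIntegral_lin_div' χ.2 hF hFi
    rw [Blocks.ConvCentral.lin_def, h1] at h8
    exact h8
  · rw [h7] at h6
    simp only [div_one, mul_one] at h6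
    exact (memLocalIdeal_iff_of_sub h6).1 h4

/-- The value at a `p`-element with class length prime to `p`. -/
theorem apply_ne_zero (hM : IsPModular p M) {u : G}
    {χ : IrrCharacter G} (hχ : χ ∈ principalBlock M G)
    (hlen : ¬ p ∣ (Subgroup.centralizer ({u} : Set G)).index) : (χ : G → ℂ) u ≠ 0 := by
  have := isPrime_of_isPModular hM
  intro h0
  have h5 : SameBlock M (fun _ : G => (1 : ℂ)) (χ : G → ℂ) := hχ
  have h := h5 u
  unfold centralChar at h
  rw [h0] at h
  simp only [mul_zero, zero_div, sub_zero, mul_one, div_one] at h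
  exact hlen ((memLocalIdeal_natCast_iff hM _).1 h)

/-- The lower bound for one section. -/
theorem le_cr (hM : IsPModular p M) {u : G} (hu : ∃ k : ℕ, orderOf u = p ^ k)
    {χ : IrrCharacter G} (hχ : χ ∈ principalBlock M G)
    (hrat : ∀ g, ∃ q : ℚ, (χ : G → ℂ) g = q) {h : ℕ} (hh : 1 ≤ h)
    (hdeg : p ^ h ∣ charDegree (χ : G → ℂ))
    (hlen : ¬ p ∣ (Subgroup.centralizer ({u} : Set G)).index) :
    (p : ℝ) ^ (h + 1) ≤ (p : ℝ) ^ (Nat.card G).factorization p * cr p u (χ : G → ℂ) := by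
  classical
  have hp : p.Prime := Fact.out
  have hpos : 0 < cr p u (χ : G → ℂ) := cr_pos hp (apply_ne_zero hM hχ hlen)
  obtain ⟨hi1, hi2⟩ := scaled hM hu hχ (dvd_trans (dvd_pow_self p (by omega)) hdeg)
  have hi3 := isIntegral_pow_mul_cr hu χ
  -- rationality
  obtain ⟨q, hq⟩ : ∃ q : ℚ, cr p u (χ : G → ℂ) = (q : ℝ) := by
    choose v hv using hrat
    refine ⟨(Nat.card (Subgroup.centralizer ({u} : Set G)) : ℚ)⁻¹ *
      ∑ y ∈ Finset.univ.filter (fun y : G => Commute u y ∧ ¬ p ∣ orderOf y), (v (u * y)) ^ 2, ?_⟩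
    unfold cr
    push_cast
    congr 1
    refine Finset.sum_congr rfl fun y _ => ?_
    rw [hv]
    have h1 : ‖((v (u * y) : ℚ) : ℂ)‖ = |((v (u * y) : ℚ) : ℝ)| := by
      rw [← Complex.ofReal_ratCast, Complex.norm_real, Real.norm_eq_abs]
    rw [h1, sq_abs]
  have hdne : charDegree (χ : G → ℂ) ≠ 0 := charDegree_ne_zero χ
  obtain ⟨r, hr⟩ : ∃ r : ℤ, (p : ℂ) ^ (Nat.card G).factorization p *
      ((cr p u (χ : G → ℂ) : ℝ) : ℂ) = r := by
    refine SchurBound.exists_int_of_rat hi3 (q := (p : ℚ) ^ (Nat.card G).factorization p * q) ?_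
    rw [hq]
    push_cast
    rfl
  obtain ⟨k, hk⟩ : ∃ k : ℤ, (Nat.card G : ℂ) * ((cr p u (χ : G → ℂ) : ℝ) : ℂ) / (χ : G → ℂ) 1 = k := by
    refine SchurBound.exists_int_of_rat hi1
      (q := (Nat.card G : ℚ) * q / (charDegree (χ : G → ℂ) : ℚ)) ?_
    rw [hq, apply_one_eq_charDegree]
    push_cast
    rfl
  rw [hk, memLocalIdeal_intCast_iff hM] at hi2
  -- `|G| = p ^ d * m`
  set d := (Nat.card G).factorization p with hd
  obtain ⟨m, hm⟩ : p ^ d ∣ Nat.card G := Nat.ordProj_dvd _ _
  have hmp : ¬ p ∣ m := by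
    have h1 := Nat.not_dvd_ordCompl hp (Nat.card_pos (α := G)).ne'
    rw [← hd, hm, Nat.mul_div_cancel_left _ (pow_pos hp.pos d)] at h1
    exact h1
  obtain ⟨n, hn⟩ := hdeg
  obtain ⟨k', rfl⟩ := hi2
  have hχ1 := apply_one_ne_zero χ
  have e1 : (m : ℤ) * r = (p : ℤ) ^ (h + 1) * ((n : ℤ) * k') := by
    have h1 : (m : ℂ) * (r : ℂ) = (χ : G → ℂ) 1 * (((p : ℤ) * k' : ℤ) : ℂ) := by
      rw [← hk, ← hr, mul_div_cancel₀ _ hχ1, hm]
      push_cast
      ring
    rw [apply_one_eq_charDegree, hn] at h1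
    have h2 : (((m : ℤ) * r : ℤ) : ℂ) = (((p : ℤ) ^ (h + 1) * ((n : ℤ) * k') : ℤ) : ℂ) := by
      push_cast at h1 ⊢
      rw [h1]
      ring
    exact_mod_cast h2
  have e2 : (p : ℤ) ^ (h + 1) ∣ r := by
    have h1 : (p : ℤ) ^ (h + 1) ∣ (m : ℤ) * r := ⟨_, e1⟩
    refine IsCoprime.dvd_of_dvd_mul_left ?_ h1
    refine IsCoprime.pow_left ?_
    rw [Nat.isCoprime_iff_coprime]
    exact (Nat.Prime.coprime_iff_not_dvd hp).2 hmp
  have e3 : (p : ℝ) ^ d * cr p u (χ : G → ℂ) = (r : ℝ) := by
    have h1 : (((p : ℝ) ^ d * cr p u (χ : G → ℂ) : ℝ) : ℂ) = ((r : ℝ) : ℂ) := by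
      push_cast
      exact hr
    exact_mod_cast h1
  have e4 : 0 < r := by
    have h1 : (0 : ℝ) < (r : ℝ) := by
      rw [← e3]
      have : (0 : ℝ) < (p : ℝ) ^ d := by
        have := hp.pos
        positivity
      positivity
    exact_mod_cast h1
  have e5 := Int.le_of_dvd e4 e2
  rw [e3]
  exact_mod_cast e5

/-- **The bound.** -/
theorem card_mul_le (hM : IsPModular p M) {χ : IrrCharacter G} (hχ : χ ∈ principalBlock M G)
    (hrat : ∀ g, ∃ q : ℚ, (χ : G → ℂ) g = q) {h : ℕ} (hh : 1 ≤ h)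
    (hdeg : p ^ h ∣ charDegree (χ : G → ℂ)) (T : Finset G)
    (hT : ∀ u ∈ T, ∃ k : ℕ, orderOf u = p ^ k)
    (hlen : ∀ u ∈ T, ¬ p ∣ (Subgroup.centralizer ({u} : Set G)).index)
    (hTT : ∀ u ∈ T, ∀ v ∈ T, IsConj u v → u = v) :
    T.card * p ^ (h + 1) ≤ p ^ (Nat.card G).factorization p := by
  have h1 := sum_cr_le p χ T hT hTT
  have h2 : ∑ u ∈ T, (p : ℝ) ^ (h + 1) ≤ ∑ u ∈ T,
      (p : ℝ) ^ (Nat.card G).factorization p * cr p u (χ : G → ℂ) :=
    Finset.sum_le_sum fun u hu => le_cr hM (hT u hu) hχ hrat hh hdeg (hlen u hu)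
  rw [Finset.sum_const, nsmul_eq_mul, ← Finset.mul_sum] at h2
  have h3 : (p : ℝ) ^ (Nat.card G).factorization p * ∑ u ∈ T, cr p u (χ : G → ℂ) ≤
      (p : ℝ) ^ (Nat.card G).factorization p * 1 :=
    mul_le_mul_of_nonneg_left h1 (by positivity)
  have h4 := h2.trans h3
  rw [mul_one] at h4
  exact_mod_cast h4

/-- Too many classes of `p`-elements of length prime to `p`: `χ` is not in the principal block. -/
theorem not_mem_principalBlock (hM : IsPModular p M) {χ : IrrCharacter G}
    (hrat : ∀ g, ∃ q : ℚ, (χ : G → ℂ) g = q) {h : ℕ} (hh : 1 ≤ h)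
    (hdeg : p ^ h ∣ charDegree (χ : G → ℂ)) (T : Finset G)
    (hT : ∀ u ∈ T, ∃ k : ℕ, orderOf u = p ^ k)
    (hlen : ∀ u ∈ T, ¬ p ∣ (Subgroup.centralizer ({u} : Set G)).index)
    (hTT : ∀ u ∈ T, ∀ v ∈ T, IsConj u v → u = v)
    (hbig : p ^ (Nat.card G).factorization p < T.card * p ^ (h + 1)) :
    χ ∉ principalBlock M G := fun hχ =>
  absurd (card_mul_le hM hχ hrat hh hdeg T hT hlen hTT) (not_le.2 hbig)

end main

section cyclic

variable {G : Type*} [Group G] [Fintype G] {p : ℕ} [Fact p.Prime] {M : Ideal AlgInt}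

theorem zpowers_eq_of_mem {x y : G} (h : x ∈ Subgroup.zpowers y) (ho : orderOf x = orderOf y) :
    Subgroup.zpowers x = Subgroup.zpowers y := by
  refine Subgroup.eq_of_le_of_card_ge ((Subgroup.zpowers_le).2 h) ?_
  rw [Nat.card_zpowers, Nat.card_zpowers, ho]

theorem centralizer_zpowers (y : G) :
    Subgroup.centralizer ((Subgroup.zpowers y : Subgroup G) : Set G) =
      Subgroup.centralizer ({y} : Set G) := by
  ext x
  rw [Subgroup.mem_centralizer_singleton_iff]
  constructor
  · intro h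
    exact (Subgroup.mem_centralizer_iff.1 h y (Subgroup.mem_zpowers y)).symm
  · intro h
    rw [Subgroup.mem_centralizer_iff]
    rintro w ⟨n, rfl⟩
    exact (show Commute y x from h.symm).zpow_left n

/-- The automizer of `⟨y⟩` has order at most `p - 1`. -/
theorem card_range_le {y : G} {a : ℕ} (ha : 1 ≤ a) (hy : orderOf y = p ^ a)
    (hlen : ¬ p ∣ (Subgroup.centralizer ({y} : Set G)).index) :
    Nat.card (Subgroup.normalizerMonoidHom (Subgroup.zpowers y)).range ≤ p - 1 := by
  have hp : p.Prime := Fact.out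
  set A : Subgroup G := Subgroup.zpowers y with hA
  have h1 : Nat.card (Subgroup.normalizerMonoidHom A).range ∣ Nat.card (MulAut A) :=
    Subgroup.card_subgroup_dvd_card _
  rw [IsCyclic.card_mulAut, hA, Nat.card_zpowers, hy, Nat.totient_prime_pow hp ha, ← hA] at h1
  have h2 : Nat.card (Subgroup.normalizerMonoidHom A).range =
      (Subgroup.centralizer (A : Set G)).relIndex (Subgroup.normalizer (A : Set G)) := by
    rw [← Subgroup.index_ker, Subgroup.normalizerMonoidHom_ker]
    rfl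
  have h3 : Nat.card (Subgroup.normalizerMonoidHom A).range ∣
      (Subgroup.centralizer ({y} : Set G)).index := by
    rw [h2, ← centralizer_zpowers y, ← hA]
    exact Subgroup.relIndex_dvd_index_of_le (Subgroup.centralizer_le_normalizer _)
  have h4 : ¬ p ∣ Nat.card (Subgroup.normalizerMonoidHom A).range := fun h => hlen (h.trans h3)
  have h5 : Nat.card (Subgroup.normalizerMonoidHom A).range ∣ p - 1 := by
    refine Nat.Coprime.dvd_of_dvd_mul_left ?_ h1
    exact (Nat.Coprime.pow_left _ ((Nat.Prime.coprime_iff_not_dvd hp).2 h4)).symm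
  exact Nat.le_of_dvd (Nat.sub_pos_of_lt hp.one_lt) h5

open Classical in
theorem card_filter_isConj_le {y : G} {a : ℕ} (ha : 1 ≤ a) (hy : orderOf y = p ^ a)
    (hlen : ¬ p ∣ (Subgroup.centralizer ({y} : Set G)).index) {x₀ : G}
    (h₀ : x₀ ∈ Subgroup.zpowers y ∧ orderOf x₀ = p ^ a) :
    Nat.card {x : G // (x ∈ Subgroup.zpowers y ∧ orderOf x = p ^ a) ∧ IsConj x₀ x} ≤ p - 1 := by
  refine le_trans ?_ (card_range_le ha hy hlen)
  set A : Subgroup G := Subgroup.zpowers y with hA
  have hz0 : Subgroup.zpowers x₀ = A := zpowers_eq_of_mem h₀.1 (h₀.2.trans hy.symm)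
  have key : ∀ x : {x : G // (x ∈ A ∧ orderOf x = p ^ a) ∧ IsConj x₀ x},
      ∃ φ : (Subgroup.normalizerMonoidHom A).range,
        (((φ : MulAut A) ⟨x₀, h₀.1⟩ : A) : G) = (x : G) := by
    rintro ⟨x, ⟨hx1, hx2⟩, hx3⟩
    obtain ⟨g, hg⟩ := isConj_iff.1 hx3
    have hz : Subgroup.zpowers x = A := zpowers_eq_of_mem hx1 (hx2.trans hy.symm)
    have hgN : g ∈ Subgroup.normalizer (A : Set G) := by
      rw [Subgroup.mem_normalizer_iff]
      have h1 : ∀ w : G, w ∈ A → g * w * g⁻¹ ∈ A := by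
        intro w hw
        rw [← hz0, Subgroup.mem_zpowers_iff] at hw
        obtain ⟨k, rfl⟩ := hw
        rw [← conj_zpow, hg]
        exact A.zpow_mem hx1 k
      have h2 : ∀ w : G, w ∈ A → g⁻¹ * w * g ∈ A := by
        intro w hw
        rw [← hz, Subgroup.mem_zpowers_iff] at hw
        obtain ⟨k, rfl⟩ := hw
        have h3 : g⁻¹ * x ^ k * g = x₀ ^ k := by
          rw [← hg, conj_zpow]
          group
        rw [h3]
        exact A.zpow_mem h₀.1 k
      intro w
      refine ⟨h1 w, fun hw => ?_⟩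
      have h3 := h2 _ hw
      have h4 : g⁻¹ * (g * w * g⁻¹) * g = w := by group
      rwa [h4] at h3
    refine ⟨⟨Subgroup.normalizerMonoidHom A ⟨g, hgN⟩, ⟨g, hgN⟩, rfl⟩, ?_⟩
    exact hg
  choose f hf using key
  refine Nat.card_le_card_of_injective f fun x x' h => ?_
  apply Subtype.ext
  rw [← hf x, ← hf x', h]

open Classical in
theorem card_generators {y : G} {a : ℕ} (hy : orderOf y = p ^ a) :
    (Finset.univ.filter (fun x : G => x ∈ Subgroup.zpowers y ∧ orderOf x = p ^ a)).card =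
      (p ^ a).totient := by
  have h1 := IsCyclic.card_orderOf_eq_totient (α := Subgroup.zpowers y) (d := p ^ a)
    (by rw [← Nat.card_eq_fintype_card, Nat.card_zpowers, hy])
  rw [← h1]
  symm
  refine Finset.card_bij (fun x _ => (x : G)) ?_ ?_ ?_
  · intro x hx
    refine Finset.mem_filter.2 ⟨Finset.mem_univ _, x.2, ?_⟩
    rw [Subgroup.orderOf_coe]
    exact (Finset.mem_filter.1 hx).2
  · intro x _ x' _ h
    exact Subtype.ext h
  · intro x hx
    obtain ⟨h2, h3⟩ := (Finset.mem_filter.1 hx).2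
    refine ⟨⟨x, h2⟩, Finset.mem_filter.2 ⟨Finset.mem_univ _, ?_⟩, rfl⟩
    rw [Subgroup.orderOf_mk]
    exact h3

/-- An element of order `p ^ a` with class length prime to `p` bounds the height. -/
theorem add_lt (hM : IsPModular p M) {χ : IrrCharacter G} (hχ : χ ∈ principalBlock M G)
    (hrat : ∀ g, ∃ q : ℚ, (χ : G → ℂ) g = q) {h : ℕ} (hh : 1 ≤ h)
    (hdeg : p ^ h ∣ charDegree (χ : G → ℂ)) {y : G} {a : ℕ} (ha : 1 ≤ a)
    (hy : orderOf y = p ^ a)
    (hlen : ¬ p ∣ (Subgroup.centralizer ({y} : Set G)).index) :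
    h + a < (Nat.card G).factorization p := by
  classical
  have hp : p.Prime := Fact.out
  let S : Finset G := Finset.univ.filter (fun x : G => x ∈ Subgroup.zpowers y ∧ orderOf x = p ^ a)
  have hS : ∀ x, x ∈ S ↔ (x ∈ Subgroup.zpowers y ∧ orderOf x = p ^ a) := fun x => by
    simp [S]
  obtain ⟨T, hTS, hinj, himg⟩ := Finset.exists_subset_injOn_image_eq_of_surjOn
    (f := fun x : G => ConjClasses.mk x) (S : Set G) (S.image (fun x : G => ConjClasses.mk x))
    (by
      intro c hc
      rw [Finset.coe_image] at hc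
      exact hc)
  have hTS' : ∀ x ∈ T, x ∈ S := fun x hx => hTS hx
  have hcard : S.card ≤ (p - 1) * T.card := by
    have h1 : T.card = (S.image (fun x : G => ConjClasses.mk x)).card := by
      rw [← himg, Finset.card_image_of_injOn hinj]
    rw [h1]
    refine Finset.card_le_mul_card_image S (p - 1) fun b hb => ?_
    obtain ⟨x₀, hx₀, rfl⟩ := Finset.mem_image.1 hb
    have h2 := card_filter_isConj_le ha hy hlen ((hS x₀).1 hx₀)
    refine le_trans (le_of_eq ?_) h2
    rw [Nat.card_eq_fintype_card, Fintype.card_subtype]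
    congr 1
    ext x
    simp only [Finset.mem_filter, Finset.mem_univ, true_and, hS]
    refine and_congr_right fun _ => ?_
    rw [ConjClasses.mk_eq_mk_iff_isConj]
    exact isConj_comm
  have hScard : S.card = p ^ (a - 1) * (p - 1) := by
    rw [← Nat.totient_prime_pow hp ha]
    exact card_generators hy
  have hTcard : p ^ (a - 1) ≤ T.card := by
    rw [hScard, mul_comm] at hcard
    exact Nat.le_of_mul_le_mul_left hcard (Nat.sub_pos_of_lt hp.one_lt)
  have h1T : (1 : G) ∉ T := by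
    intro h1
    have h2 := ((hS 1).1 (hTS' 1 h1)).2
    rw [orderOf_one] at h2
    exact absurd h2 (Nat.one_lt_pow (by omega) hp.one_lt).ne
  have hind : ∀ u ∈ T, ¬ p ∣ (Subgroup.centralizer ({u} : Set G)).index := by
    intro u hu
    obtain ⟨h2, h3⟩ := (hS u).1 (hTS' u hu)
    rw [← centralizer_zpowers, zpowers_eq_of_mem h2 (h3.trans hy.symm), centralizer_zpowers]
    exact hlen
  have hmain := card_mul_le hM hχ hrat hh hdeg (insert 1 T)
    (by
      intro u hu
      rcases Finset.mem_insert.1 hu with rfl | hu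
      · exact ⟨0, by simp⟩
      · exact ⟨a, ((hS u).1 (hTS' u hu)).2⟩)
    (by
      intro u hu
      rcases Finset.mem_insert.1 hu with rfl | hu
      · have h2 : Subgroup.centralizer ({(1 : G)} : Set G) = ⊤ := by
          ext x
          rw [Subgroup.mem_centralizer_singleton_iff]
          simp
        rw [h2, Subgroup.index_top]
        exact hp.one_lt.not_ge ∘ Nat.le_of_dvd Nat.one_pos
      · exact hind u hu)
    (by
      intro u hu v hv huv
      rcases Finset.mem_insert.1 hu with rfl | hu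
      · exact (isConj_one_right.1 huv).symm
      · rcases Finset.mem_insert.1 hv with rfl | hv
        · exact isConj_one_left.1 huv
        · exact hinj hu hv (ConjClasses.mk_eq_mk_iff_isConj.2 huv))
  rw [Finset.card_insert_of_notMem h1T] at hmain
  have h5 : p ^ (h + a) < p ^ (Nat.card G).factorization p := by
    refine lt_of_lt_of_le ?_ hmain
    have h6 : p ^ (h + a) = p ^ (a - 1) * p ^ (h + 1) := by
      rw [← pow_add]
      congr 1
      omega
    rw [h6]
    exact Nat.mul_lt_mul_of_pos_right (by omega) (pow_pos hp.pos _)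
  exact (Nat.pow_lt_pow_iff_right hp.one_lt).1 h5

/-- The form used to exclude `χ` from the principal block. -/
theorem not_mem_of_le_add (hM : IsPModular p M) {χ : IrrCharacter G}
    (hrat : ∀ g, ∃ q : ℚ, (χ : G → ℂ) g = q) {h : ℕ} (hh : 1 ≤ h)
    (hdeg : p ^ h ∣ charDegree (χ : G → ℂ)) {y : G} {a : ℕ} (ha : 1 ≤ a)
    (hy : orderOf y = p ^ a)
    (hlen : ¬ p ∣ (Subgroup.centralizer ({y} : Set G)).index)
    (hle : (Nat.card G).factorization p ≤ h + a) : χ ∉ principalBlock M G := fun hχ =>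
  absurd (add_lt hM hχ hrat hh hdeg ha hy hlen) (not_lt.2 hle)

end cyclic

end Cfsg.Agent.H582.Sph.BF
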